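import Cfsg.Agent.TwistedLie.F4Facts
import Cfsg.Agent.Chevalley.EvalTwo
import Cfsg.Agent.Chevalley.InvCoord

/-! Tables for the involutions of `²F₄(q)` (generated). -/

set_option autoImplicit false

namespace CfsgLib.TwistedLie.F4Inv

open Cfsg.Lie CfsgLib.Chevalley

/-- Columns of `g - 1`. -/
def colsP : List ℕ := [0, 137438953472, 268435456, 0, 32, 0, 0, 2048, 528384, 3171328, 2113536, 0, 0, 16384, 0, 12648448, 8388608, 16777216, 137438953473, 0, 2097152, 0, 8388608, 0, 0, 67108864, 0, 268435464, 0, 1073741824, 0, 274877906944, 1657857376256, 1099511627776, 112184545771520, 74766790688768, 149533581377536, 0, 0, 1099511627776, 0, 4398046511104, 0, 0, 281474976710656, 70368744177664, 0, 0, 0, 0, 2251799813685248, 0]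

/-- A basis of their span. -/
def basisP : List (ℕ × ℕ × List ℕ) := [(37, 137438953472, [1]),
  (28, 268435456, [2]),
  (5, 32, [4]),
  (11, 2048, [7]),
  (19, 528384, [8]),
  (21, 3171328, [9]),
  (20, 1057792, [9, 10]),
  (14, 16384, [13]),
  (23, 12648448, [15]),
  (22, 4259840, [15, 16]),
  (24, 16777216, [17]),
  (0, 1, [1, 18]),
  (26, 67108864, [25]),
  (3, 8, [2, 27]),
  (30, 1073741824, [29]),
  (38, 274877906944, [31]),
  (40, 1657857376256, [32]),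
  (39, 558345748480, [32, 33]),
  (46, 112184545771520, [34]),
  (45, 37417755082752, [34, 35]),
  (47, 149533581377536, [36]),
  (42, 4398046511104, [41]),
  (48, 281474976710656, [44]),
  (51, 2251799813685248, [50])]

/-- Columns of `g - 1`. -/
def colsQ : List ℕ := [4294967296, 0, 4294967296, 21474836480, 0, 896, 512, 0, 0, 0, 0, 40960, 32768, 0, 393216, 0, 262144, 0, 0, 171966464, 134217728, 22028484614, 0, 6442450946, 4294967296, 0, 19327352832, 0, 111669149696, 0, 68719476736, 0, 0, 0, 0, 0, 0, 2748779069440, 2199023255552, 0, 26388279066624, 0, 17592186044416, 0, 0, 0, 1970324836974592, 1125899906842624, 0, 0, 0, 0]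

/-- A basis of their span. -/
def basisQ : List (ℕ × ℕ × List ℕ) := [(32, 4294967296, [0]),
  (34, 17179869184, [0, 3]),
  (9, 896, [5]),
  (8, 384, [5, 6]),
  (15, 40960, [11]),
  (13, 8192, [11, 12]),
  (18, 393216, [14]),
  (17, 131072, [14, 16]),
  (27, 171966464, [19]),
  (25, 37748736, [19, 20]),
  (29, 553648134, [3, 21]),
  (31, 2147483650, [0, 23]),
  (1, 2, [3, 23, 26]),
  (36, 111669149696, [28]),
  (35, 42949672960, [28, 30]),
  (41, 2748779069440, [37]),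
  (39, 549755813888, [37, 38]),
  (44, 26388279066624, [40]),
  (43, 8796093022208, [40, 42]),
  (50, 1970324836974592, [46]),
  (49, 844424930131968, [46, 47])]

/-- Conjugates of the root elements. -/
def tblP : List (ℕ × List (ℕ × List Mon)) := [(24, [(24, [(1, 1, 0)])]),
  (25, [(25, [(1, 1, 0)]), (26, [(1, 1, 0)])]),
  (26, [(26, [(1, 1, 0)])]),
  (27, [(27, [(1, 1, 0)]), (34, [(1, 1, 0)])]),
  (28, [(28, [(1, 1, 0)]), (29, [(1, 1, 0)]), (35, [(1, 1, 0)]), (36, [(1, 1, 0)]), (32, [(1, 2, 0)]), (43, [(1, 2, 0)])]),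
  (29, [(29, [(1, 1, 0)]), (36, [(1, 1, 0)])]),
  (30, [(30, [(1, 1, 0)]), (31, [(1, 1, 0)]), (37, [(1, 1, 0)]), (38, [(1, 1, 0)]), (41, [(1, 1, 0)]), (42, [(1, 1, 0)]), (45, [(1, 2, 0)])]),
  (31, [(31, [(1, 1, 0)]), (38, [(1, 1, 0)]), (42, [(1, 1, 0)])]),
  (32, [(32, [(1, 1, 0)]), (39, [(1, 1, 0)]), (43, [(1, 1, 0)])]),
  (33, [(33, [(1, 1, 0)])]),
  (34, [(34, [(1, 1, 0)])]),
  (35, [(35, [(1, 1, 0)]), (36, [(1, 1, 0)]), (43, [(1, 2, 0)])]),
  (36, [(36, [(1, 1, 0)])]),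
  (37, [(37, [(1, 1, 0)]), (38, [(1, 1, 0)]), (45, [(1, 2, 0)])]),
  (38, [(38, [(1, 1, 0)])]),
  (39, [(39, [(1, 1, 0)])]),
  (40, [(40, [(1, 1, 0)]), (44, [(1, 1, 0)])]),
  (41, [(41, [(1, 1, 0)]), (42, [(1, 1, 0)])]),
  (42, [(42, [(1, 1, 0)])]),
  (43, [(43, [(1, 1, 0)])]),
  (44, [(44, [(1, 1, 0)])]),
  (45, [(45, [(1, 1, 0)])]),
  (46, [(46, [(1, 1, 0)]), (47, [(1, 1, 0)])]),
  (47, [(47, [(1, 1, 0)])])]

/-- Conjugates of the root elements. -/
def tblQ : List (ℕ × List (ℕ × List Mon)) := [(24, [(24, [(1, 1, 0)]), (29, [(1, 1, 0)]), (31, [(1, 1, 0)]), (32, [(1, 1, 0)])]),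
  (25, [(25, [(1, 1, 0)])]),
  (26, [(26, [(1, 1, 0)]), (32, [(1, 1, 0)])]),
  (27, [(27, [(1, 1, 0)])]),
  (28, [(28, [(1, 1, 0)])]),
  (29, [(29, [(1, 1, 0)])]),
  (30, [(30, [(1, 1, 0)])]),
  (31, [(31, [(1, 1, 0)])]),
  (32, [(32, [(1, 1, 0)])]),
  (33, [(33, [(1, 1, 0)]), (35, [(1, 1, 0)]), (37, [(1, 1, 0)]), (41, [(1, 2, 0)])]),
  (34, [(34, [(1, 1, 0)]), (37, [(1, 1, 0)])]),
  (35, [(35, [(1, 1, 0)])]),
  (36, [(36, [(1, 1, 0)]), (39, [(1, 1, 0)]), (40, [(1, 1, 0)]), (47, [(1, 2, 0)])]),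
  (37, [(37, [(1, 1, 0)])]),
  (38, [(38, [(1, 1, 0)]), (40, [(1, 1, 0)])]),
  (39, [(39, [(1, 1, 0)])]),
  (40, [(40, [(1, 1, 0)])]),
  (41, [(41, [(1, 1, 0)])]),
  (42, [(42, [(1, 1, 0)]), (44, [(1, 1, 0)]), (45, [(1, 1, 0)]), (46, [(1, 1, 0)])]),
  (43, [(43, [(1, 1, 0)]), (46, [(1, 1, 0)])]),
  (44, [(44, [(1, 1, 0)])]),
  (45, [(45, [(1, 1, 0)])]),
  (46, [(46, [(1, 1, 0)])]),
  (47, [(47, [(1, 1, 0)])])]

/-- Check: every row of a table is a conjugate by the product over `x`. -/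
def chkTab (x : List ℕ) (tb : List (ℕ × List (ℕ × List Mon))) : Bool :=
  tb.all fun e => Mod2.eq2B chevF4
    (x.map (fun r => (r, [((1 : ℤ), 0, 0)])) ++ [(e.1, [(1, 1, 0)])] ++
      x.map fun r => (r, [((1 : ℤ), 0, 0)])) e.2

theorem tblP_ok : chkTab [33, 24] tblP = true := by decide +kernel

theorem tblQ_ok : chkTab [28, 30] tblQ = true := by decide +kernel

theorem rankP : chkRank chevF4 [33, 24] colsP basisP = true := by decide +kernel

theorem rankQ : chkRank chevF4 [28, 30] colsQ basisQ = true := by decide +kernel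

end CfsgLib.TwistedLie.F4Inv
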